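import Mathlib.CategoryTheory.Abelian.RightDerived
import Mathlib.Algebra.Homology.HomologySequenceLemmas
import Mathlib.Algebra.Homology.HomologicalComplexAbelian
import Mathlib.CategoryTheory.Limits.FunctorCategory.Basic
import Mathlib.CategoryTheory.Abelian.Exact

/-!
The connecting map between the right derived functors of a sequence of functors which is short
exact on injective objects.
-/

set_option autoImplicit false

universe v v' u u'

open CategoryTheory CategoryTheory.Limits

namespace Groth.Agent.RDSeq

variable {C : Type u} [Category.{v} C] [Abelian C] [EnoughInjectives C]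
  {D : Type u'} [Category.{v'} D] [Abelian D]
  {K F G : C ⥤ D} [K.Additive] [F.Additive] [G.Additive]
  (ι : K ⟶ F) (π : F ⟶ G) (w : ∀ X, ι.app X ≫ π.app X = 0)

/-- `0 → K(R) → F(R) → G(R) → 0`. -/
noncomputable abbrev cxSeq (R : CochainComplex C ℕ) : ShortComplex (CochainComplex D ℕ) :=
  ShortComplex.mk ((NatTrans.mapHomologicalComplex ι (ComplexShape.up ℕ)).app R)
    ((NatTrans.mapHomologicalComplex π (ComplexShape.up ℕ)).app R)
    (by ext n; exact w (R.X n))

omit [EnoughInjectives C] in
theorem inv_hom_cancel {A B Z : D} (e : A ≅ B) (h : B ⟶ Z) : e.inv ≫ e.hom ≫ h = h :=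
  e.inv_hom_id_assoc h

variable (hI : ∀ I : C, Injective I → (ShortComplex.mk (ι.app I) (π.app I) (w I)).ShortExact)

omit [EnoughInjectives C] in
include hI in
theorem cxSeq_shortExact (R : CochainComplex C ℕ) (hR : ∀ n, Injective (R.X n)) :
    (cxSeq ι π w R).ShortExact :=
  HomologicalComplex.shortExact_of_degreewise_shortExact _ fun n => hI _ (hR n)

/-- The connecting natural transformation `RⁱG ⟶ Rⁱ⁺¹K`. -/
noncomputable def delta (i : ℕ) : G.rightDerived i ⟶ K.rightDerived (i + 1) where
  app X := ((injectiveResolution X).isoRightDerivedObj G i).hom ≫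
    (cxSeq_shortExact ι π w hI _ (injectiveResolution X).injective).δ i (i + 1) rfl ≫
    ((injectiveResolution X).isoRightDerivedObj K (i + 1)).inv
  naturality X Y f := by
    let R := injectiveResolution X
    let R' := injectiveResolution Y
    let φ := InjectiveResolution.desc f R' R
    have hφ : R.ι.f 0 ≫ φ.f 0 = f ≫ R'.ι.f 0 := InjectiveResolution.desc_commutes_zero f R' R
    let Φ : cxSeq ι π w R.cocomplex ⟶ cxSeq ι π w R'.cocomplex :=
      { τ₁ := (K.mapHomologicalComplex _).map φ
        τ₂ := (F.mapHomologicalComplex _).map φ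
        τ₃ := (G.mapHomologicalComplex _).map φ
        comm₁₂ := (NatTrans.mapHomologicalComplex_naturality ι φ)
        comm₂₃ := (NatTrans.mapHomologicalComplex_naturality π φ) }
    have h1 := InjectiveResolution.isoRightDerivedObj_hom_naturality f R R' φ hφ G i
    have h2 := InjectiveResolution.isoRightDerivedObj_inv_naturality f R R' φ hφ K (i + 1)
    have h3 := HomologicalComplex.HomologySequence.δ_naturality Φ
      (cxSeq_shortExact ι π w hI _ R.injective) (cxSeq_shortExact ι π w hI _ R'.injective) i (i + 1) rfl
    refine (Category.assoc _ _ _).symm.trans ((congrArg (· ≫ _) h1).trans ?_)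
    refine (Category.assoc _ _ _).trans (Eq.trans ?_ ((Category.assoc _ _ _).trans
      (congrArg (_ ≫ ·) (Category.assoc _ _ _))).symm)
    refine congrArg (_ ≫ ·) ?_
    refine (Category.assoc _ _ _).symm.trans ((congrArg (· ≫ _) h3.symm).trans ?_)
    exact (Category.assoc _ _ _).trans (congrArg (_ ≫ ·) h2.symm)

theorem isZero_homology (i : ℕ) (X : C) (h : IsZero ((F.rightDerived i).obj X)) :
    IsZero (HomologicalComplex.homology
      ((F.mapHomologicalComplex (ComplexShape.up ℕ)).obj (injectiveResolution X).cocomplex) i) :=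
  h.of_iso ((injectiveResolution X).isoRightDerivedObj F i).symm

theorem isIso_delta_app (i : ℕ) (X : C) (h : IsZero ((F.rightDerived i).obj X))
    (h' : IsZero ((F.rightDerived (i + 1)).obj X)) : IsIso ((delta ι π w hI i).app X) := by
  have := (cxSeq_shortExact ι π w hI _ (injectiveResolution X).injective).isIso_δ i (i + 1) rfl
    (isZero_homology i X h) (isZero_homology (i + 1) X h')
  exact @IsIso.comp_isIso _ _ _ _ _ _ _ inferInstance (@IsIso.comp_isIso _ _ _ _ _ _ _ this inferInstance)

theorem isIso_delta (i : ℕ) (h : ∀ X, IsZero ((F.rightDerived i).obj X))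
    (h' : ∀ X, IsZero ((F.rightDerived (i + 1)).obj X)) : IsIso (delta ι π w hI i) :=
  have : ∀ X, IsIso ((delta ι π w hI i).app X) := fun X => isIso_delta_app ι π w hI i X (h X) (h' X)
  NatIso.isIso_of_isIso_app _

omit [K.Additive] in
theorem toRightDerivedZero_natural (α : F ⟶ G) (X : C) :
    α.app X ≫ G.toRightDerivedZero.app X =
      F.toRightDerivedZero.app X ≫ (NatTrans.rightDerived α 0).app X := by
  let P := injectiveResolution X
  have h : P.toRightDerivedZero' F ≫ HomologicalComplex.cyclesMap
      ((NatTrans.mapHomologicalComplex α (ComplexShape.up ℕ)).app P.cocomplex) 0 =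
      α.app X ≫ P.toRightDerivedZero' G := by
    rw [← cancel_mono (HomologicalComplex.iCycles _ _), Category.assoc, Category.assoc,
      HomologicalComplex.cyclesMap_i, InjectiveResolution.toRightDerivedZero'_comp_iCycles,
      InjectiveResolution.toRightDerivedZero'_comp_iCycles_assoc]
    exact α.naturality (P.ι.f 0)
  rw [P.toRightDerivedZero_eq, P.toRightDerivedZero_eq, P.rightDerived_app_eq]
  simp only [Category.assoc]
  have hπ := HomologicalComplex.homologyπ_naturality
    ((NatTrans.mapHomologicalComplex α (ComplexShape.up ℕ)).app P.cocomplex) 0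
  have hπ' : HomologicalComplex.cyclesMap
      ((NatTrans.mapHomologicalComplex α (ComplexShape.up ℕ)).app P.cocomplex) 0 ≫
      (CochainComplex.isoHomologyπ₀ _).hom =
    (CochainComplex.isoHomologyπ₀ _).hom ≫ HomologicalComplex.homologyMap
      ((NatTrans.mapHomologicalComplex α (ComplexShape.up ℕ)).app P.cocomplex) 0 := hπ.symm
  refine (Category.assoc _ _ _).symm.trans ((congrArg (· ≫ _) h.symm).trans ?_)
  refine (Category.assoc _ _ _).trans (congrArg (_ ≫ ·) ?_)
  refine Eq.trans ?_ (congrArg (_ ≫ ·) (inv_hom_cancel _ _).symm)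
  exact (Category.assoc _ _ _).symm.trans ((congrArg (· ≫ _) hπ').trans (Category.assoc _ _ _))

theorem rightDerived_comp_delta (i : ℕ) (X : C) :
    (NatTrans.rightDerived π i).app X ≫ (delta ι π w hI i).app X = 0 := by
  rw [(injectiveResolution X).rightDerived_app_eq]
  simp only [delta, Category.assoc, Iso.inv_hom_id_assoc]
  refine (congrArg (_ ≫ ·) ((Category.assoc _ _ _).symm.trans (congrArg (· ≫ _)
    ((cxSeq_shortExact ι π w hI _ (injectiveResolution X).injective).comp_δ i (i + 1) rfl)))).trans ?_
  rw [zero_comp]
  exact comp_zero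

theorem exact_rightDerived_delta (i : ℕ) (X : C) :
    (ShortComplex.mk _ _ (rightDerived_comp_delta ι π w hI i X)).Exact := by
  refine ShortComplex.exact_of_iso (ShortComplex.isoMk
    ((injectiveResolution X).isoRightDerivedObj F i).symm
    ((injectiveResolution X).isoRightDerivedObj G i).symm
    ((injectiveResolution X).isoRightDerivedObj K (i + 1)).symm ?_ ?_)
    ((cxSeq_shortExact ι π w hI _ (injectiveResolution X).injective).homology_exact₃ i (i + 1) rfl)
  · dsimp
    rw [(injectiveResolution X).rightDerived_app_eq]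
    exact inv_hom_cancel _ _
  · exact inv_hom_cancel _ _

theorem epi_delta_app (i : ℕ) (X : C) (h : IsZero ((F.rightDerived (i + 1)).obj X)) :
    Epi ((delta ι π w hI i).app X) := by
  have := ((cxSeq_shortExact ι π w hI _ (injectiveResolution X).injective).homology_exact₁ i (i + 1) rfl).epi_f
    ((isZero_homology (i + 1) X h).eq_of_tgt _ _)
  exact @epi_comp _ _ _ _ _ _ inferInstance _ (@epi_comp _ _ _ _ _ _ this _ inferInstance)

include ι w hI in
/-- `R¹K` is the cokernel of `F ⟶ G` if `F`, `G` are left exact and `R¹F = 0`. -/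
theorem nonempty_cokernel_iso [PreservesFiniteLimits F] [PreservesFiniteLimits G]
    (h : ∀ X, IsZero ((F.rightDerived 1).obj X)) :
    Nonempty (K.rightDerived 1 ≅ cokernel π) := by
  let δ' : G ⟶ K.rightDerived 1 := G.toRightDerivedZero ≫ delta ι π w hI 0
  have w' : π ≫ δ' = 0 := by
    ext X
    refine (Category.assoc _ _ _).symm.trans ((congrArg (· ≫ _) (toRightDerivedZero_natural π X)).trans ?_)
    exact (Category.assoc _ _ _).trans ((congrArg (_ ≫ ·) (rightDerived_comp_delta ι π w hI 0 X)).trans comp_zero)
  have hc : IsColimit (CokernelCofork.ofπ δ' w') := by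
    refine evaluationJointlyReflectsColimits _ fun X => ?_
    refine (CokernelCofork.isColimitMapCoconeEquiv _ ((evaluation C D).obj X)).symm ?_
    have w₁ : π.app X ≫ δ'.app X = 0 := NatTrans.congr_app w' X
    have he : (ShortComplex.mk (π.app X) (δ'.app X) w₁).Exact := by
      refine (ShortComplex.exact_iff_of_iso (ShortComplex.isoMk (S₁ := ShortComplex.mk (π.app X) (δ'.app X) w₁)
        (S₂ := ShortComplex.mk _ _ (rightDerived_comp_delta ι π w hI 0 X))
        (asIso (F.toRightDerivedZero.app X))
        (asIso (G.toRightDerivedZero.app X)) (Iso.refl _) ?_ ?_)).2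
          (exact_rightDerived_delta ι π w hI 0 X)
      · exact (toRightDerivedZero_natural π X).symm
      · exact (Category.comp_id _).symm
    have : Epi (δ'.app X) := @epi_comp _ _ _ _ _ _ inferInstance _ (epi_delta_app ι π w hI 0 X (h X))
    exact he.gIsCokernel
  exact ⟨hc.coconePointUniqueUpToIso (colimit.isColimit _)⟩

end Groth.Agent.RDSeq
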